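import Groth.Agent.Comodule.SubStruct
import Groth.Agent.Comodule.HilbertFG
import Mathlib.RingTheory.Ideal.MinimalPrime.Basic
import Mathlib.RingTheory.LocalRing.ResidueField.Ideal
import Mathlib.RingTheory.Spectrum.Prime.RingHom

/-!
# Orbits of unipotent groups on affine schemes are closed

No finiteness hypothesis is needed: the orbit of a point and the orbit of any point of its closure both
contain every minimal prime of the closure.
-/

set_option autoImplicit false
set_option backward.isDefEq.respectTransparency false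
universe u v w x

open TensorProduct WithConv

noncomputable section

namespace Groth.Agent.UnipOrbitLib

universe a b c in
/-- Two extensions of a field have a common extension. -/
theorem exists_common_field {κ : Type a} {L₁ : Type b} {L₂ : Type c} [Field κ] [Field L₁] [Field L₂]
    (f₁ : κ →+* L₁) (f₂ : κ →+* L₂) :
    ∃ (N : Type max b c) (_ : Field N) (e₁ : L₁ →+* N) (e₂ : L₂ →+* N), ∀ z, e₁ (f₁ z) = e₂ (f₂ z) := by
  letI := f₁.toAlgebra
  letI := f₂.toAlgebra
  haveI : Nontrivial (L₁ ⊗[κ] L₂) :=
    (Algebra.TensorProduct.includeLeft_injective (S := κ) (A := L₁) (B := L₂) f₂.injective).nontrivial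
  obtain ⟨m, hm⟩ := Ideal.exists_maximal (L₁ ⊗[κ] L₂)
  haveI := hm
  exact ⟨_, Ideal.Quotient.field m, (Ideal.Quotient.mk m).comp Algebra.TensorProduct.includeLeftRingHom,
    (Ideal.Quotient.mk m).comp (Algebra.TensorProduct.includeRight : L₂ →ₐ[κ] L₁ ⊗[κ] L₂).toRingHom,
    fun z => congrArg (Ideal.Quotient.mk m)
      (Algebra.TensorProduct.tmul_one_eq_one_tmul (A := L₁) (B := L₂) z)⟩

open Comodule

variable {k : Type u} [Field k] {H : Type v} [CommRing H] [HopfAlgebra k H]
  {A : Type w} [CommRing A] [Algebra k A] [HopfRep.Comod k H A] [GLin.IsCoactAlg k H A]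

section Act

variable {M : Type x} [CommRing M] [Algebra k M]

/-- A point moved by a point of the group. -/
def act (y : A →ₐ[k] M) (g : H →ₐ[k] M) : A →ₐ[k] M :=
  (Algebra.TensorProduct.lift y g fun _ _ => Commute.all _ _).comp (GLin.coactAlgHom k H A)

theorem act_act (y : A →ₐ[k] M) (g h : H →ₐ[k] M) :
    act (act y g) h = act y (toConv g * toConv h).ofConv := by
  refine AlgHom.ext fun a => ?_
  let L : A ⊗[k] (H ⊗[k] H) →ₐ[k] M :=
    Algebra.TensorProduct.lift y ((Algebra.TensorProduct.lmul' k).comp (Algebra.TensorProduct.map g h))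
      fun _ _ => Commute.all _ _
  have e1 : ∀ z : A ⊗[k] H, Algebra.TensorProduct.lift (act y g) h (fun _ _ => Commute.all _ _) z =
      L (TensorProduct.assoc k A H H ((HopfRep.Comod.coact (k := k) (A := H)).rTensor H z)) := by
    intro z
    induction z with
    | zero => simp
    | add p q hp hq => simp only [map_add, hp, hq]
    | tmul b c =>
      simp only [Algebra.TensorProduct.lift_tmul, act, AlgHom.comp_apply, GLin.coactAlgHom_apply,
        LinearMap.rTensor_tmul]
      generalize HopfRep.Comod.coact (k := k) (A := H) b = p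
      induction p with
      | zero => simp
      | add p q hp hq => simp only [map_add, TensorProduct.add_tmul, add_mul, hp, hq]
      | tmul e f =>
        simp only [L, Algebra.TensorProduct.lift_tmul, TensorProduct.assoc_tmul, AlgHom.comp_apply,
          Algebra.TensorProduct.map_tmul, Algebra.TensorProduct.lmul'_apply_tmul, mul_assoc]
  have hc := LinearMap.congr_fun (HopfRep.Comod.coassoc (k := k) (A := H) (V := A)) a
  simp only [LinearMap.coe_comp, Function.comp_apply, LinearEquiv.coe_coe] at hc
  show Algebra.TensorProduct.lift (act y g) h (fun _ _ => Commute.all _ _) (GLin.coactAlgHom k H A a) =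
    Algebra.TensorProduct.lift y (toConv g * toConv h).ofConv (fun _ _ => Commute.all _ _) (GLin.coactAlgHom k H A a)
  rw [e1, GLin.coactAlgHom_apply, hc]
  generalize HopfRep.Comod.coact (k := k) (A := H) a = p
  induction p with
  | zero => simp
  | add p q hp hq => simp only [map_add, hp, hq]
  | tmul e f => simp only [LinearMap.lTensor_tmul, L, Algebra.TensorProduct.lift_tmul, AlgHom.comp_apply]; rfl

theorem act_one (y : A →ₐ[k] M) : act y (1 : WithConv (H →ₐ[k] M)).ofConv = y := by
  refine AlgHom.ext fun a => ?_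
  have hc := LinearMap.congr_fun (HopfRep.Comod.counit_comp (k := k) (A := H) (V := A)) a
  simp only [LinearMap.coe_comp, Function.comp_apply, LinearMap.flip_apply, TensorProduct.mk_apply] at hc
  have e : ∀ z : A ⊗[k] H,
      Algebra.TensorProduct.lift y (1 : WithConv (H →ₐ[k] M)).ofConv (fun _ _ => Commute.all _ _) z =
        y (TensorProduct.rid k A ((Coalgebra.counit (R := k) (A := H)).lTensor A z)) := by
    intro z
    induction z with
    | zero => simp
    | add p q hp hq => simp only [map_add, hp, hq]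
    | tmul b c =>
      rw [Algebra.TensorProduct.lift_tmul, LinearMap.lTensor_tmul, TensorProduct.rid_tmul, map_smul,
        Algebra.smul_def, mul_comm]
      congr 1
  show Algebra.TensorProduct.lift y _ (fun _ _ => Commute.all _ _) (GLin.coactAlgHom k H A a) = _
  rw [e, GLin.coactAlgHom_apply, hc]
  simp

/-- The convolution inverse of a point. -/
theorem conv_mul_antipode (g : H →ₐ[k] M) :
    toConv g * toConv (g.comp (HopfAlgebra.antipodeAlgHom k H)) = 1 := by
  refine WithConv.ext (AlgHom.ext fun c => ?_)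
  have h := congrArg g (HopfAlgebra.mul_antipode_lTensor_comul_apply (R := k) c)
  rw [AlgHom.commutes] at h
  refine Eq.trans ?_ h
  show Algebra.TensorProduct.lmul' k (Algebra.TensorProduct.map g (g.comp (HopfAlgebra.antipodeAlgHom k H))
    (Coalgebra.comul (R := k) c)) = _
  generalize Coalgebra.comul (R := k) c = p
  induction p with
  | zero => simp
  | add p q hp hq => simp only [map_add, hp, hq]
  | tmul b d => simp

theorem act_comp {N : Type x} [CommRing N] [Algebra k N] (τ : M →ₐ[k] N) (y : A →ₐ[k] M) (g : H →ₐ[k] M) :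
    act (τ.comp y) (τ.comp g) = τ.comp (act y g) := by
  refine AlgHom.ext fun a => ?_
  show Algebra.TensorProduct.lift (τ.comp y) (τ.comp g) (fun _ _ => Commute.all _ _) (GLin.coactAlgHom k H A a) =
    τ (Algebra.TensorProduct.lift y g (fun _ _ => Commute.all _ _) (GLin.coactAlgHom k H A a))
  generalize GLin.coactAlgHom k H A a = z
  induction z with
  | zero => simp
  | add p q hp hq => simp only [map_add, hp, hq]
  | tmul b c => simp

theorem act_ofId (x₀ : A →ₐ[k] k) (g : H →ₐ[k] M) :
    act ((Algebra.ofId k M).comp x₀) g = g.comp (GLin.orbitHom k H x₀) := by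
  refine AlgHom.ext fun a => ?_
  show Algebra.TensorProduct.lift ((Algebra.ofId k M).comp x₀) g (fun _ _ => Commute.all _ _) (GLin.coactAlgHom k H A a) =
    g (Algebra.TensorProduct.lid k H (Algebra.TensorProduct.map x₀ (AlgHom.id k H) (GLin.coactAlgHom k H A a)))
  generalize GLin.coactAlgHom k H A a = z
  induction z with
  | zero => simp
  | add p q hp hq => simp only [map_add, hp, hq]
  | tmul b c => simp [Algebra.smul_def]

end Act

variable (x : A →ₐ[k] k)

theorem exists_const_mem (hU : HopfRep.IsUnipotent k H) {I : Submodule k A}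
    (hI : HopfRep.IsSubcomod (k := k) (A := H) I) {a : A} (ha : a ∈ I) (h0 : GLin.orbitHom k H x a ≠ 0) :
    ∃ b ∈ I, ∃ c : k, c ≠ 0 ∧ GLin.orbitHom k H x b = algebraMap k H c := by
  let o := coefMap (C := H) x.toLinearMap
  let W : Submodule k H := (Submodule.span (WithConv (H →ₗ[k] k)) {o a}).restrictScalars k
  have hW : HopfRep.IsSubcomod (k := k) (A := H) W := isSubcomod_restrictScalars _
  haveI : Module.Finite k W := finite_span_singleton (o a)
  have hoa : o a ∈ W := Submodule.subset_span rfl
  haveI : Nontrivial W := ⟨⟨⟨o a, hoa⟩, 0, fun e => h0 (by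
    rw [Comodule.HilbertFG.orbit_eq_coefMap]
    exact congrArg Subtype.val e)⟩⟩
  letI := subComod W hW
  obtain ⟨w, hw, hw0⟩ := Submodule.exists_mem_ne_zero_of_ne_bot (hU W inferInstance inferInstance)
  have hw' : Coalgebra.comul (R := k) (w : H) = (w : H) ⊗ₜ[k] (1 : H) := by
    have h1 := rTensor_subCoact W hW w
    rw [show subCoact W hW w = w ⊗ₜ[k] (1 : H) from hw, LinearMap.rTensor_tmul] at h1
    exact h1.symm
  have hc : (w : H) = algebraMap k H (Coalgebra.counit (R := k) (w : H)) := by
    have h1 := Coalgebra.rTensor_counit_comul (R := k) (w : H)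
    rw [hw', LinearMap.rTensor_tmul] at h1
    have h2 := congrArg (TensorProduct.lid k H) h1
    rw [TensorProduct.lid_tmul, TensorProduct.lid_tmul, one_smul] at h2
    rw [Algebra.algebraMap_eq_smul_one]
    exact h2.symm
  obtain ⟨f, hf⟩ := Submodule.mem_span_singleton.1 (show (w : H) ∈ Submodule.span _ {o a} from w.2)
  refine ⟨f • a, isSubcomod_iff.1 hI f a ha, Coalgebra.counit (R := k) (w : H), fun e => hw0 (Subtype.ext ?_), ?_⟩
  · rw [hc, e, map_zero]; rfl
  · rw [Comodule.HilbertFG.orbit_eq_coefMap, ← hc, ← hf]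
    exact map_smul o f a

variable (P : Ideal A) [P.IsPrime]

/-- The orbit map of a prime. -/
def orbitAt : A →ₐ[k] P.ResidueField ⊗[k] H :=
  (Algebra.TensorProduct.map (IsScalarTower.toAlgHom k A P.ResidueField) (AlgHom.id k H)).comp
    (GLin.coactAlgHom k H A)

theorem isSubcomod_ker_orbitAt :
    HopfRep.IsSubcomod (k := k) (A := H) ((RingHom.ker (orbitAt (k := k) (H := H) P)).restrictScalars k) := by
  refine isSubcomod_iff.2 fun f a ha => ?_
  rw [Submodule.restrictScalars_mem, RingHom.mem_ker] at ha ⊢
  let π := IsScalarTower.toAlgHom k A P.ResidueField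
  let D : H →ₗ[k] H := (TensorProduct.rid k H).toLinearMap ∘ₗ f.ofConv.lTensor H ∘ₗ Coalgebra.comul
  have e1 : ∀ z : A ⊗[k] H, orbitAt (k := k) (H := H) P (TensorProduct.rid k A (f.ofConv.lTensor A z)) =
      (TensorProduct.rid k (P.ResidueField ⊗[k] H)) (f.ofConv.lTensor _
        ((((π.toLinearMap).rTensor H) ∘ₗ HopfRep.Comod.coact (k := k) (A := H)).rTensor H z)) := by
    intro z
    induction z with
    | zero => simp
    | add p q hp hq => simp only [map_add, hp, hq]
    | tmul b c =>
      simp only [LinearMap.lTensor_tmul, TensorProduct.rid_tmul, map_smul, LinearMap.rTensor_tmul]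
      rfl
  have e2 : ∀ z : (A ⊗[k] H) ⊗[k] H, (TensorProduct.rid k (P.ResidueField ⊗[k] H)) (f.ofConv.lTensor _
      ((π.toLinearMap.rTensor H).rTensor H z)) =
      π.toLinearMap.rTensor H (((TensorProduct.rid k H).toLinearMap ∘ₗ f.ofConv.lTensor H).lTensor A
        (TensorProduct.assoc k A H H z)) := by
    intro z
    induction z with
    | zero => simp
    | add p q hp hq => simp only [map_add, hp, hq]
    | tmul b c =>
      induction b with
      | zero => simp
      | add p q hp hq => simp only [TensorProduct.add_tmul, map_add, hp, hq]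
      | tmul e g => simp [TensorProduct.smul_tmul']
  have e3 : ∀ z : A ⊗[k] H, π.toLinearMap.rTensor H (D.lTensor A z) = D.lTensor _ (π.toLinearMap.rTensor H z) :=
    fun z => by
      induction z with
      | zero => simp
      | add p q hp hq => simp only [map_add, hp, hq]
      | tmul b c => simp
  have hc := LinearMap.congr_fun (HopfRep.Comod.coassoc (k := k) (A := H) (V := A)) a
  simp only [LinearMap.coe_comp, Function.comp_apply, LinearEquiv.coe_coe] at hc
  have ho : π.toLinearMap.rTensor H (HopfRep.Comod.coact (k := k) (A := H) a) = orbitAt (k := k) (H := H) P a := rfl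
  rw [smul_def]
  show orbitAt (k := k) (H := H) P (TensorProduct.rid k A (f.ofConv.lTensor A (HopfRep.Comod.coact (k := k) (A := H) a))) = 0
  rw [e1, LinearMap.rTensor_comp_apply, e2, hc, ← LinearMap.lTensor_comp_apply]
  show π.toLinearMap.rTensor H (D.lTensor A (HopfRep.Comod.coact (k := k) (A := H) a)) = 0
  rw [e3, ho, ha, map_zero]

variable {P}

theorem orbitAt_eq_zero {a : A} (hP : RingHom.ker (GLin.orbitHom k H x) ≤ P)
    (ha : GLin.orbitHom k H x a = 0) : orbitAt (k := k) (H := H) P a = 0 := by
  obtain ⟨z, hz⟩ := Comodule.HilbertFG.isSubcomod_ker_orbit x a (RingHom.mem_ker.2 ha)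
  show Algebra.TensorProduct.map _ _ (HopfRep.Comod.coact (k := k) (A := H) a) = 0
  rw [← hz]
  clear hz
  induction z with
  | zero => simp
  | add p q hp hq => simp only [map_add, hp, hq, add_zero]
  | tmul b c =>
    rw [LinearMap.rTensor_tmul, Algebra.TensorProduct.map_tmul]
    have : IsScalarTower.toAlgHom k A P.ResidueField (b : A) = 0 :=
      Ideal.algebraMap_residueField_eq_zero.2 (hP b.2)
    rw [Submodule.subtype_apply, this, TensorProduct.zero_tmul]

theorem orbitHom_eq_zero (hU : HopfRep.IsUnipotent k H) (hP : RingHom.ker (GLin.orbitHom k H x) ≤ P)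
    {a : A} (ha : orbitAt (k := k) (H := H) P a = 0) : GLin.orbitHom k H x a = 0 := by
  by_contra h0
  obtain ⟨b, hb, c, hc, hbc⟩ := exists_const_mem x hU (isSubcomod_ker_orbitAt (k := k) (H := H) P)
    (RingHom.mem_ker.2 ha) h0
  rw [Submodule.restrictScalars_mem, RingHom.mem_ker] at hb
  have h1 : orbitAt (k := k) (H := H) P (b - algebraMap k A c) = 0 :=
    orbitAt_eq_zero x hP (by rw [map_sub, AlgHom.commutes, hbc, sub_self])
  rw [map_sub, hb, zero_sub, neg_eq_zero, AlgHom.commutes] at h1
  haveI : Nontrivial H := (Bialgebra.counitAlgHom k H).toRingHom.domain_nontrivial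
  haveI : Nontrivial (P.ResidueField ⊗[k] H) :=
    ((Algebra.TensorProduct.lift (AlgHom.id k P.ResidueField) ((Algebra.ofId k P.ResidueField).comp
      (Bialgebra.counitAlgHom k H)) fun _ _ => Commute.all _ _)).toRingHom.domain_nontrivial
  exact hc ((map_eq_zero _).1 h1)

set_option synthInstance.maxHeartbeats 200000 in
set_option maxHeartbeats 800000 in
theorem isClosedOrbit (hU : HopfRep.IsUnipotent k H) : GLin.IsClosedOrbit k H x := by
  classical
  let o := GLin.orbitHom k H x
  have key : Set.range (PrimeSpectrum.comap o.toRingHom) = PrimeSpectrum.zeroLocus (RingHom.ker o : Set A) := by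
    refine subset_antisymm ?_ fun P hP => ?_
    · rintro _ ⟨Q, rfl⟩
      exact fun a ha => show o a ∈ Q.asIdeal by rw [RingHom.mem_ker.1 ha]; exact Q.asIdeal.zero_mem
    have hP' : RingHom.ker o ≤ P.asIdeal := hP
    let ψ := orbitAt (k := k) (H := H) P.asIdeal
    have hker : RingHom.ker o.toRingHom = RingHom.ker ψ.toRingHom := Ideal.ext fun a =>
      ⟨fun h => RingHom.mem_ker.2 (orbitAt_eq_zero x hP' h), fun h => RingHom.mem_ker.2 (orbitHom_eq_zero x hU hP' h)⟩
    obtain ⟨q, hq, -⟩ := Ideal.exists_minimalPrimes_le hP'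
    obtain ⟨Q₁, _, -, hQ₁⟩ := Ideal.exists_comap_eq_of_mem_minimalPrimes o.toRingHom (I := ⊥) q (by rw [← RingHom.ker_eq_comap_bot]; exact hq)
    obtain ⟨Q₂, _, -, hQ₂⟩ := Ideal.exists_comap_eq_of_mem_minimalPrimes ψ.toRingHom (I := ⊥) q (by
      rw [← RingHom.ker_eq_comap_bot, ← hker]; exact hq)
    haveI : q.IsPrime := hq.1.1
    let κ := q.ResidueField
    let L₁ := Q₁.ResidueField
    let L₂ := Q₂.ResidueField
    let f₁ : κ →ₐ[k] L₁ := Ideal.ResidueField.mapₐ q Q₁ o hQ₁.symm
    let f₂ : κ →ₐ[k] L₂ := Ideal.ResidueField.mapₐ q Q₂ ψ hQ₂.symm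
    obtain ⟨N, hN, e₁, e₂, he⟩ := exists_common_field f₁.toRingHom f₂.toRingHom
    letI := hN
    replace he : ∀ z, e₁ (f₁ z) = e₂ (f₂ z) := he
    letI : Algebra k N := (e₁.comp (algebraMap k L₁)).toAlgebra
    let σ₁ : L₁ →ₐ[k] N := { e₁ with commutes' := fun _ => rfl }
    have hσ : ∀ c : k, e₂ (algebraMap k L₂ c) = e₁ (algebraMap k L₁ c) := fun c => by
      rw [← f₂.commutes, ← f₁.commutes, he]
    let σ₂ : L₂ →ₐ[k] N := { e₂ with commutes' := hσ }
    let g₁ : H →ₐ[k] N := σ₁.comp (IsScalarTower.toAlgHom k H L₁)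
    let g₂ : H →ₐ[k] N := σ₂.comp ((IsScalarTower.toAlgHom k (P.asIdeal.ResidueField ⊗[k] H) L₂).comp
      Algebra.TensorProduct.includeRight)
    let p : A →ₐ[k] N := σ₂.comp ((IsScalarTower.toAlgHom k (P.asIdeal.ResidueField ⊗[k] H) L₂).comp
      ((Algebra.TensorProduct.includeLeft : P.asIdeal.ResidueField →ₐ[k] _).comp
        (IsScalarTower.toAlgHom k A P.asIdeal.ResidueField)))
    have h12 : act p g₂ = g₁.comp o := by
      refine AlgHom.ext fun a => ?_
      have hψ : ∀ z : A ⊗[k] H, Algebra.TensorProduct.lift p g₂ (fun _ _ => Commute.all _ _) z =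
          σ₂ (algebraMap _ L₂ (Algebra.TensorProduct.map (IsScalarTower.toAlgHom k A P.asIdeal.ResidueField)
            (AlgHom.id k H) z)) := by
        intro z
        induction z with
        | zero => simp
        | add u v hu hv => simp only [map_add, hu, hv]
        | tmul b c =>
          simp only [Algebra.TensorProduct.lift_tmul, p, g₂, AlgHom.comp_apply,
            IsScalarTower.coe_toAlgHom', Algebra.TensorProduct.map_tmul, AlgHom.id_apply,
            Algebra.TensorProduct.includeLeft_apply, Algebra.TensorProduct.includeRight_apply, ← map_mul]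
          congr 2
          simp
      show Algebra.TensorProduct.lift p g₂ (fun _ _ => Commute.all _ _) (GLin.coactAlgHom k H A a) = σ₁ (algebraMap H L₁ (o a))
      rw [hψ]
      show e₂ (algebraMap _ L₂ (ψ a)) = e₁ (algebraMap H L₁ (o a))
      have h1 : f₁ (algebraMap A κ a) = algebraMap H L₁ (o a) := Ideal.ResidueField.map_algebraMap _ _ _ _ a
      have h2 : f₂ (algebraMap A κ a) = algebraMap _ L₂ (ψ a) := Ideal.ResidueField.map_algebraMap _ _ _ _ a
      rw [← h1, ← h2, he]
    let x' : A →ₐ[k] N := (Algebra.ofId k N).comp x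
    let g : H →ₐ[k] N := (toConv g₁ * toConv (g₂.comp (HopfAlgebra.antipodeAlgHom k H))).ofConv
    have hp : p = g.comp o := by
      have h := congrArg (fun y => act y (g₂.comp (HopfAlgebra.antipodeAlgHom k H))) (h12.trans (act_ofId x g₁).symm)
      rw [act_act, act_act] at h
      rw [conv_mul_antipode g₂, act_one] at h
      exact h.trans (act_ofId x _)
    refine ⟨⟨RingHom.ker g.toRingHom, RingHom.ker_isPrime _⟩, PrimeSpectrum.ext (Ideal.ext fun a => ?_)⟩
    show g (o a) = 0 ↔ a ∈ P.asIdeal
    rw [show g (o a) = p a by rw [hp]; rfl]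
    show e₂ (algebraMap _ L₂ ((algebraMap A P.asIdeal.ResidueField a) ⊗ₜ[k] (1 : H))) = 0 ↔ _
    let j : P.asIdeal.ResidueField →+* N := (e₂.comp (algebraMap (P.asIdeal.ResidueField ⊗[k] H) L₂)).comp
      Algebra.TensorProduct.includeLeftRingHom
    show j (algebraMap A P.asIdeal.ResidueField a) = 0 ↔ _
    rw [map_eq_zero, Ideal.algebraMap_residueField_eq_zero]
  show IsClosed (Set.range (PrimeSpectrum.comap o.toRingHom))
  rw [key]
  exact PrimeSpectrum.isClosed_zeroLocus _

end Groth.Agent.UnipOrbitLib
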