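import Groth.Agent.UnipOrbitLib.Basic
import Groth.Agent.MonoFibre.Affinization
import Groth.Agent.RedQuotLib.Coord
import Groth.Prelude.Def_Mor2

/-!
# Orbits of unipotent groups on quasi-affine schemes are closed
-/

set_option autoImplicit false
set_option backward.isDefEq.respectTransparency false
set_option backward.isDefEq.respectTransparency.types false

universe u

noncomputable section

open CategoryTheory CategoryTheory.Limits MonoidalCategory CartesianMonoidalCategory MonObj AlgebraicGeometry

namespace Groth.Agent.UnipOrbitLib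

open MonoFibre.Affinization RedQuot

variable {k : Type u} [Field k]

attribute [local instance] RedQuot.coordAlg

/-- An action of an affine group extends to the affinization. -/
theorem exists_action_aff {G X X' : Over (Spec (CommRingCat.of k))} [GrpObj G] [IsAffine G.left]
    [QuasiCompact G.hom] [QuasiSeparated G.hom] [QuasiCompact X.hom] [QuasiSeparated X.hom]
    (a : AlgGrp.Action G X) (t : X ⟶ X') (ht : IsAffz t) :
    ∃ a' : AlgGrp.Action G X', (G ◁ t) ≫ a'.act = a.act ≫ t := by
  haveI := ht.affine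
  have hG : IsAffz (𝟙 G) := ⟨inferInstance, by rw [Over.id_left, Scheme.Hom.id_appTop]; infer_instance⟩
  haveI : QuasiCompact (G ⊗ G).hom := by show QuasiCompact (pullback.fst G.hom G.hom ≫ G.hom); infer_instance
  haveI : QuasiSeparated (G ⊗ G).hom := by show QuasiSeparated (pullback.fst G.hom G.hom ≫ G.hom); infer_instance
  haveI : QuasiCompact (𝟙_ (Over (Spec (CommRingCat.of k)))).hom := inferInstanceAs (QuasiCompact (𝟙 _))
  haveI : QuasiSeparated (𝟙_ (Over (Spec (CommRingCat.of k)))).hom := inferInstanceAs (QuasiSeparated (𝟙 _))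
  have hGG : IsAffz (𝟙 (G ⊗ G)) := ⟨isAffine_tensor G G, by rw [Over.id_left, Scheme.Hom.id_appTop]; infer_instance⟩
  have hGt : IsAffz (G ◁ t) := by rw [← id_tensorHom]; exact hG.tensor ht
  obtain ⟨m, hm⟩ := hGt.exists_lift (a.act ≫ t)
  refine ⟨⟨m, ?_, ?_⟩, hm⟩
  · apply (isAffz_id_unit.tensor ht).hom_ext
    rw [id_tensorHom, ← Category.assoc, whisker_exchange, Category.assoc, hm, ← Category.assoc, a.one_act,
      leftUnitor_naturality]
  · apply (hGG.tensor ht).hom_ext
    rw [id_tensorHom, ← Category.assoc, whisker_exchange, Category.assoc, hm, ← Category.assoc, a.mul_act]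
    simp only [Category.assoc]
    rw [← hm, ← MonoidalCategory.whiskerLeft_comp_assoc G a.act t, ← hm,
      MonoidalCategory.whiskerLeft_comp_assoc, associator_naturality_right_assoc]

variable {A : Type u} [CommRing A] [HopfAlgebra k A]

/-- Orbits of unipotent groups on affine schemes are closed. -/
theorem isClosed_orbit_affine (hU : HopfRep.IsUnipotent k A) {X : Over (Spec (CommRingCat.of k))} [IsAffine X.left]
    (a : AlgGrp.Action (CoactBr.sp k A) X) (x : 𝟙_ (Over (Spec (CommRingCat.of k))) ⟶ X) :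
    IsClosed (Set.range (a.orbitMap x).left.base) := by
  let e : CoactBr.sp k A ≅ CoactBr.sp k A := Iso.refl _
  haveI : IsMonHom e.hom := inferInstanceAs (IsMonHom (𝟙 _))
  obtain ⟨c, hc, hco⟩ := exists_coaction e a
  letI := c; haveI := hc
  obtain ⟨φ, hφ⟩ := CoactPtsLib.exists_pt ((toUnit (CoactBr.sp k A) ≫ x) ≫ (eX X).inv)
  let x₀ : Γ(X.left, ⊤) →ₐ[k] k := (Bialgebra.counitAlgHom k A).comp φ
  have hφ₀ : (Algebra.ofId k A).comp x₀ = φ := by
    refine CoactBr.pt_injective ?_
    show CoactBr.pt (((Algebra.ofId k A).comp (Bialgebra.counitAlgHom k A)).comp φ) = _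
    rw [CoactBr.pt_comp, ← hφ, ← Category.assoc, ← Category.assoc]
    rw [toUnit_unique (_ ≫ toUnit (CoactBr.sp k A)) (toUnit (CoactBr.sp k A))]
  have key : GrpObj.inv ≫ a.orbitMap x = CoactBr.pt (GLin.orbitHom k A x₀) ≫ (eX X).hom := by
    have h1 : lift (CoactBr.pt φ) (CoactBr.pt (AlgHom.id k A)) ≫ CoactBr.ract k A Γ(X.left, ⊤) =
        CoactBr.pt (GLin.orbitHom k A x₀) := by
      rw [CoactBr.lift_pt_ract, ← hφ₀]
      congr 1
      refine AlgHom.ext fun f => ?_
      show Algebra.TensorProduct.lift _ _ (fun _ _ => Commute.all _ _) (GLin.coactAlgHom k A _ f) =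
        Algebra.TensorProduct.lid k A
          (Algebra.TensorProduct.map x₀ (AlgHom.id k A) (GLin.coactAlgHom k A _ f))
      generalize GLin.coactAlgHom k A Γ(X.left, ⊤) f = z
      induction z with
      | zero => simp
      | add p q hp hq => simp only [map_add, hp, hq]
      | tmul p q => simp [Algebra.smul_def]
    rw [← h1, Category.assoc, ← hco, lift_map_assoc, ← hφ, CoactBr.pt_id, Category.id_comp, Category.assoc,
      Iso.inv_hom_id, Category.comp_id, lift_rX, AlgGrp.Action.orbitMap, ← Category.assoc, comp_lift,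
      Category.comp_id, ← Category.assoc, toUnit_unique (GrpObj.inv ≫ toUnit (CoactBr.sp k A)) (toUnit _)]
    rfl
  have hr : Set.range (a.orbitMap x).left.base =
      (eX X).hom.left.base '' Set.range (PrimeSpectrum.comap (GLin.orbitHom k A x₀).toRingHom) := by
    have h2 : (GrpObj.inv ≫ a.orbitMap x).left = (CoactBr.pt (GLin.orbitHom k A x₀) ≫ (eX X).hom).left := by
      rw [key]
    rw [Over.comp_left, Over.comp_left, CoactBr.pt_left] at h2
    haveI : IsIso (GrpObj.inv : CoactBr.sp k A ⟶ CoactBr.sp k A).left :=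
      inferInstanceAs (IsIso ((Over.forget _).map (GrpObj.inv : CoactBr.sp k A ⟶ CoactBr.sp k A)))
    refine subset_antisymm ?_ ?_
    · rintro _ ⟨g, rfl⟩
      obtain ⟨g, rfl⟩ := (GrpObj.inv : CoactBr.sp k A ⟶ CoactBr.sp k A).left.surjective g
      exact ⟨_, ⟨g, rfl⟩, (congrArg (fun f => f.base g) h2).symm⟩
    · rintro _ ⟨_, ⟨g, rfl⟩, rfl⟩
      exact ⟨_, congrArg (fun f => f.base g) h2⟩
  rw [hr]
  haveI : IsIso (eX X).hom.left := inferInstanceAs (IsIso ((Over.forget _).map (eX X).hom))
  exact (Scheme.homeoOfIso (asIso (eX X).hom.left)).isClosedMap _ (isClosedOrbit x₀ hU)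

/-- Orbits of unipotent groups on quasi-affine schemes are closed. -/
theorem isClosed_orbit (hU : HopfRep.IsUnipotent k A) {X : Over (Spec (CommRingCat.of k))}
    (hX : Mor2.IsQuasiAffine X.hom) (a : AlgGrp.Action (CoactBr.sp k A) X)
    (x : 𝟙_ (Over (Spec (CommRingCat.of k))) ⟶ X) :
    IsClosed (Set.range (a.orbitMap x).left.base) := by
  haveI := hX.1
  haveI : ((⊤ : X.left.Opens) : Scheme.{u}).IsQuasiAffine := hX.2 ⊤ (isAffineOpen_top _)
  haveI : CompactSpace X.left := QuasiCompact.compactSpace_of_compactSpace X.hom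
  haveI hq : X.left.IsQuasiAffine := Scheme.IsQuasiAffine.of_isImmersion (X.left.topIso.inv)
  haveI : QuasiSeparated X.hom := by
    haveI : QuasiSeparatedSpace X.left := inferInstance
    infer_instance
  haveI : IsAffine (CoactBr.sp k A).left := inferInstanceAs (IsAffine (Spec _))
  haveI : QuasiCompact (CoactBr.sp k A).hom := inferInstance
  haveI : QuasiSeparated (CoactBr.sp k A).hom := inferInstance
  obtain ⟨a', ha'⟩ := exists_action_aff a (toAff X) (isAffz_toAff X)
  haveI : IsAffine (aff X).left := (isAffz_toAff X).affine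
  haveI : IsOpenImmersion (toAff X).left := inferInstanceAs (IsOpenImmersion X.left.toSpecΓ)
  have h1 : a'.orbitMap (x ≫ toAff X) = a.orbitMap x ≫ toAff X := by
    rw [AlgGrp.Action.orbitMap, AlgGrp.Action.orbitMap, Category.assoc, ← ha', lift_whiskerLeft_assoc,
      Category.assoc]
  have h2 := isClosed_orbit_affine hU a' (x ≫ toAff X)
  have h3 : Set.range (a.orbitMap x).left.base =
      (toAff X).left.base ⁻¹' Set.range (a'.orbitMap (x ≫ toAff X)).left.base := by
    ext y
    rw [h1]
    refine ⟨fun ⟨g, hg⟩ => ⟨g, congrArg (toAff X).left.base hg⟩, fun ⟨g, hg⟩ => ⟨g, ?_⟩⟩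
    exact (toAff X).left.isOpenEmbedding.injective hg
  rw [h3]
  exact h2.preimage (toAff X).left.continuous

end Groth.Agent.UnipOrbitLib
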